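import Cfsg.Agent.H835.ClsThree
import Cfsg.Agent.H834.Main5477
import Cfsg.Agent.H834.T3Fi22
import Cfsg.Agent.H835.NormFin
import Cfsg.Agent.H647.SpF.Fi22Main
import Cfsg.Agent.H835.SylFive_m3
import Cfsg.Agent.FastGrp
import Cfsg.Agent.Prune
set_option linter.all false
prune_inst 0x7f00000000000000000000000000000000000000000000000000000000000000000000000000000000000000000000000000000000000000000000000000000000000000000000000000000000000000003fffffffffffffffffffffffffffbeffbdffffffff
open scoped Cfsg.Agent.FastGrp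

/-!
# `Fi22`: the centralizers of the elements of order three (helper759)

`cases` : for `s` of order three, `|C(s)|` is
* `19595520` (3A), or
* divides `2 ^ 7 * 3 ^ 9` and is divisible by `3 ^ 9` (3B), or
* divides `279936` (3C), or
* is `17496` and `s` commutes with no transposition (3D).

`card_le` : `|C(s)| ≤ 19595520`.
-/

set_option autoImplicit false

namespace Cfsg.Agent.H759.Ore.Fi22Cent

open Subgroup Cfsg Cfsg.Agent.LThreeFi22 Cfsg.Agent.H836 Cfsg.Agent.R01.FiFusion Cfsg.Agent.R01.FiFacts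
open Cfsg.Agent.KFacts.FiTT (TK)
open Cfsg.Agent.H835.ClsThree

universe v

variable {K : Type v} [Group K]

/-- conjugate cyclic subgroups have centralizers of the same order -/
theorem card_cent_of_conj {x y g : K} (h : (zpowers x).map (MulAut.conj g).toMonoidHom = zpowers y) :
    Nat.card ↥(centralizer ({x} : Set K)) = Nat.card ↥(centralizer ({y} : Set K)) := by
  rw [← H836.Main.centralizer_zpowers y, ← h, ← H836.Main.centralizer_zpowers x]
  have e1 : centralizer (((zpowers x).map (MulAut.conj g).toMonoidHom : Subgroup K) : Set K) =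
      (centralizer ((zpowers x : Subgroup K) : Set K)).map (MulAut.conj g).toMonoidHom := by
    ext k
    rw [mem_centralizer_iff, mem_map]
    constructor
    · intro hk
      refine ⟨g⁻¹ * k * g, ?_, ?_⟩
      · rw [mem_centralizer_iff]
        intro z hz
        have h1 := hk (g * z * g⁻¹) ⟨z, hz, rfl⟩
        calc z * (g⁻¹ * k * g) = g⁻¹ * (g * z * g⁻¹ * k) * g := by group
          _ = g⁻¹ * (k * (g * z * g⁻¹)) * g := by rw [h1]
          _ = g⁻¹ * k * g * z := by group
      · change g * (g⁻¹ * k * g) * g⁻¹ = k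
        group
    · rintro ⟨z, hz, rfl⟩ _ ⟨w, hw, rfl⟩
      have h1 := (mem_centralizer_iff.1 hz) w hw
      change g * w * g⁻¹ * (g * z * g⁻¹) = g * z * g⁻¹ * (g * w * g⁻¹)
      calc g * w * g⁻¹ * (g * z * g⁻¹) = g * (w * z) * g⁻¹ := by group
        _ = g * (z * w) * g⁻¹ := by rw [h1]
        _ = _ := by group
  rw [e1]
  exact (card_map_of_injective (MulAut.conj g).injective).symm

variable (e : K ≃* Spor.Fi22)

/-- the conclusion for one element of order three -/
def Cls (s : K) : Prop :=
  Nat.card ↥(centralizer ({s} : Set K)) = 19595520 ∨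
  (Nat.card ↥(centralizer ({s} : Set K)) ∣ 2 ^ 7 * 3 ^ 9 ∧ 3 ^ 9 ∣ Nat.card ↥(centralizer ({s} : Set K))) ∨
  Nat.card ↥(centralizer ({s} : Set K)) ∣ 279936 ∨
  Nat.card ↥(centralizer ({s} : Set K)) = 17496

theorem width_map {X Y : Subgroup K} (hX : Nat.card X = 3) (hY : Nat.card Y = 3) {g : K}
    (h : X.map (MulAut.conj g).toMonoidHom = Y) :
    Cfsg.commutingWidth (TK e ∩ (centralizer ((X : Subgroup K) : Set K) : Set K)) =
      Cfsg.commutingWidth (TK e ∩ (centralizer ((Y : Subgroup K) : Set K) : Set K)) := by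
  have I := inv_of_iso e
  obtain ⟨x, -, -, -, rfl⟩ := H836.Main.exists_gen Nat.prime_three hX
  obtain ⟨y, -, -, -, rfl⟩ := H836.Main.exists_gen Nat.prime_three hY
  rw [H836.Main.inter_eq, H836.Main.inter_eq]
  exact width_of_conj I h

/-- width four -/
theorem card_of_width_four {s : K} (hs : orderOf s = 3)
    (hw : Cfsg.commutingWidth (TK e ∩ (centralizer ((zpowers s : Subgroup K) : Set K) : Set K)) = 4) :
    Nat.card ↥(centralizer ({s} : Set K)) ∣ 279936 := by
  obtain ⟨m⟩ := Cfsg.Agent.H834.Bridge.model_of_iso e (D := TK e) rfl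
  have hfin := m.finite
  obtain ⟨m', hm'⟩ := m.exists_model_X (X := zpowers s) (by rw [Nat.card_zpowers, hs]) hw
  obtain ⟨hn, ⟨f⟩⟩ := m'.quot_iso_X
  have h1 : Nat.card (m'.A.subgroupOf (Subgroup.normalizer (m'.X : Set K))) = 243 := by
    rw [← m'.card_A]
    exact Nat.card_congr (Subgroup.subgroupOfEquivOfLe m'.A_le_NX).toEquiv
  have h2 := Subgroup.card_eq_card_quotient_mul_card_subgroup
    (m'.A.subgroupOf (Subgroup.normalizer (m'.X : Set K)))
  rw [Nat.card_congr f.toEquiv, Cfsg.Agent.H834.card_GO, h1] at h2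
  have h3 : centralizer ({s} : Set K) ≤ Subgroup.normalizer (m'.X : Set K) := by
    have e1 : m'.X = zpowers s := hm'.symm
    rw [e1, ← H836.Main.centralizer_zpowers]
    exact Subgroup.centralizer_le_normalizer _
  have h4 := Subgroup.card_dvd_of_le h3
  rw [h2] at h4
  exact h4

/-- width zero -/
theorem card_of_free {s : K} (hs : orderOf s = 3) (hF : ∀ t ∈ TK e, s * t ≠ t * s) :
    Nat.card ↥(centralizer ({s} : Set K)) = 17496 := by
  obtain ⟨m⟩ := Cfsg.Agent.H834.Bridge.model_of_iso e (D := TK e) rfl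
  obtain ⟨g, hg⟩ := Cfsg.Agent.H835.HexMain.free_conj e m (by rw [← hs, pow_orderOf_eq_one]) hF
  rw [card_cent_of_conj hg]
  exact (Cfsg.Agent.H835.NormFin.card_Cy e m).1

/-- an element of order three which is central in a Sylow 3-subgroup -/
theorem exists_central [Finite K] (hc : Nat.card K = 64561751654400) :
    ∃ z : K, orderOf z = 3 ∧ 3 ^ 9 ∣ Nat.card ↥(centralizer ({z} : Set K)) := by
  have : Fact (Nat.Prime 3) := ⟨Nat.prime_three⟩
  obtain ⟨P⟩ : Nonempty (Sylow 3 K) := inferInstance
  have hP : 3 ^ 9 ∣ Nat.card ↥(P : Subgroup K) := P.pow_dvd_card_of_pow_dvd_card (by rw [hc]; norm_num)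
  have hfin : Finite ↥(P : Subgroup K) := inferInstance
  have hnt : Nontrivial ↥(P : Subgroup K) := by
    rw [← Finite.one_lt_card_iff_nontrivial]
    exact lt_of_lt_of_le (by norm_num) (Nat.le_of_dvd Nat.card_pos hP)
  have hZ := P.isPGroup'.center_nontrivial
  have hd : 3 ∣ Nat.card ↥(center ↥(P : Subgroup K)) := by
    have h1 : IsPGroup 3 ↥(center ↥(P : Subgroup K)) := P.isPGroup'.to_subgroup _
    obtain ⟨n, hn⟩ := IsPGroup.iff_card.1 h1
    have h2 := Finite.one_lt_card_iff_nontrivial.2 hZ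
    rw [hn] at h2 ⊢
    have h3 : n ≠ 0 := by
      rintro rfl
      simp at h2
    exact dvd_pow_self 3 h3
  obtain ⟨z, hz⟩ := exists_prime_orderOf_dvd_card' 3 hd
  refine ⟨((z : ↥(P : Subgroup K)) : K), ?_, ?_⟩
  · exact (Subgroup.orderOf_coe (z : ↥(P : Subgroup K))).trans ((Subgroup.orderOf_coe z).trans hz)
  · refine hP.trans (Subgroup.card_dvd_of_le ?_)
    intro x hx
    rw [mem_centralizer_singleton_iff]
    have h1 := mem_center_iff.1 z.2 ⟨x, hx⟩
    exact congrArg Subtype.val h1

include e in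
/-- the arithmetic of the case 3B -/
theorem card_of_central {z : K} (hz : orderOf z = 3) (h9 : 3 ^ 9 ∣ Nat.card ↥(centralizer ({z} : Set K))) :
    Nat.card ↥(centralizer ({z} : Set K)) ∣ 2 ^ 7 * 3 ^ 9 := by
  have C := Inst.ctx e
  have hfin := C.finite
  have hle := Cfsg.Agent.H834.TThree.fi22_card_le ⟨e⟩ hz h9
  obtain ⟨k, hk⟩ := h9
  have hk0 : k ≤ 128 := by
    rw [hk] at hle
    omega
  have hz3 : z ^ 3 = 1 := by rw [← hz, pow_orderOf_eq_one]
  have hz1 : z ≠ 1 := by
    rintro rfl
    rw [orderOf_one] at hz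
    norm_num at hz
  have h3 : ¬ Is3A (TK e) z := by
    rintro ⟨a, ha, b, hb, hab, rfl⟩
    have h1 := C.card_three ha hb hab
    rw [hk] at h1
    omega
  have key : ∀ r : ℕ, r = 5 ∨ r = 7 ∨ r = 11 ∨ r = 13 → ¬ r ∣ k := by
    intro r hr hrk
    have hdvd : r ∣ Nat.card ↥(centralizer ({z} : Set K)) := by
      rw [hk]
      exact hrk.mul_left _
    have hrp : r.Prime := by rcases hr with rfl | rfl | rfl | rfl <;> norm_num
    have : Fact r.Prime := ⟨hrp⟩
    obtain ⟨⟨y, hyx⟩, hy⟩ := exists_prime_orderOf_dvd_card' (G := ↥(centralizer ({z} : Set K))) r hdvd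
    rw [Subgroup.orderOf_mk] at hy
    have hyr : y ^ r = 1 := by rw [← hy, pow_orderOf_eq_one]
    have hy1 : y ≠ 1 := by
      rintro rfl
      rw [orderOf_one] at hy
      exact hrp.one_lt.ne hy
    have hxy : z * y = y * z := (mem_centralizer_singleton_iff.1 hyx).symm
    rcases hr with rfl | rfl | rfl | rfl
    · exact h3 (C.five hyr hy1 hz3 hz1 hxy)
    · exact h3 (C.seven hyr hy1 hz3 hz1 hxy)
    · exact hz1 (C.eleven hyr hy1 hz3 hxy)
    · have h4 := H836.Main.centralizer_thirteen e hy
      have h5 : z ∈ zpowers y := by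
        rw [← h4]
        exact mem_centralizer_singleton_iff.2 hxy
      have h6 := orderOf_dvd_of_mem_zpowers h5
      rw [hz, hy] at h6
      revert h6
      norm_num
  have hdv : 3 ^ 9 * k ∣ 3 ^ 9 * (2 ^ 17 * (5 * 5 * 7 * 11 * 13)) := by
    rw [← hk]
    refine (Subgroup.card_subgroup_dvd_card _).trans ?_
    rw [C.card]
    norm_num
  have hdv2 := Nat.dvd_of_mul_dvd_mul_left (by norm_num) hdv
  have hco : ∀ r : ℕ, r = 5 ∨ r = 7 ∨ r = 11 ∨ r = 13 → k.Coprime r := by
    intro r hr
    have hrp : r.Prime := by rcases hr with rfl | rfl | rfl | rfl <;> norm_num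
    exact ((Nat.Prime.coprime_iff_not_dvd hrp).2 (key r hr)).symm
  have h17 : k ∣ 2 ^ 17 := by
    refine Nat.Coprime.dvd_of_dvd_mul_right ?_ hdv2
    refine Nat.Coprime.mul_right (Nat.Coprime.mul_right (Nat.Coprime.mul_right (Nat.Coprime.mul_right ?_ ?_) ?_) ?_) ?_
    · exact hco 5 (Or.inl rfl)
    · exact hco 5 (Or.inl rfl)
    · exact hco 7 (Or.inr (Or.inl rfl))
    · exact hco 11 (Or.inr (Or.inr (Or.inl rfl)))
    · exact hco 13 (Or.inr (Or.inr (Or.inr rfl)))
  obtain ⟨j, hj, rfl⟩ := (Nat.dvd_prime_pow Nat.prime_two).1 h17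
  have hj7 : j ≤ 7 := by
    by_contra h
    have : 2 ^ 8 ≤ 2 ^ j := Nat.pow_le_pow_right (by norm_num) (by omega)
    omega
  rw [hk, mul_comm]
  exact Nat.mul_dvd_mul_right (pow_dvd_pow 2 hj7) _

include e in
/-- **The centralizers of the elements of order three.** -/
theorem cases {s : K} (hs : orderOf s = 3) : Cls s := by
  have I := inv_of_iso e
  have C := I.ctx
  have hfin := C.finite
  obtain ⟨Y, hY, hYinj, hYall, w0, w1, w2, w3⟩ := three_concl e
  -- the class of an element of order three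
  have cl : ∀ y : K, orderOf y = 3 → ∃ i, ∃ g : K, (zpowers y).map (MulAut.conj g).toMonoidHom = Y i := fun y hy =>
    hYall _ (by rw [Nat.card_zpowers, hy])
  have wd : ∀ y : K, orderOf y = 3 → ∀ i, ∀ g : K, (zpowers y).map (MulAut.conj g).toMonoidHom = Y i →
      Cfsg.commutingWidth (TK e ∩ (centralizer ((zpowers y : Subgroup K) : Set K) : Set K)) =
        Cfsg.commutingWidth (TK e ∩ (centralizer ((Y i : Subgroup K) : Set K) : Set K)) := fun y hy i g h =>
    width_map e (by rw [Nat.card_zpowers, hy]) (hY i) h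
  -- two elements of the same class
  have same : ∀ x y : K, ∀ i, ∀ g k : K, (zpowers x).map (MulAut.conj g).toMonoidHom = Y i →
      (zpowers y).map (MulAut.conj k).toMonoidHom = Y i →
      Nat.card ↥(centralizer ({x} : Set K)) = Nat.card ↥(centralizer ({y} : Set K)) := by
    intro x y i g k h1 h2
    have h3 : (zpowers x).map (MulAut.conj (k⁻¹ * g)).toMonoidHom = zpowers y := by
      rw [← H835.HexMain.map_map_conj, h1, ← h2, H835.HexMain.map_map_conj, inv_mul_cancel, map_one]
      exact Subgroup.map_id _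
    exact card_cent_of_conj h3
  -- class 0
  have c0 : ∀ y : K, orderOf y = 3 → ∀ g : K, (zpowers y).map (MulAut.conj g).toMonoidHom = Y 0 →
      Nat.card ↥(centralizer ({y} : Set K)) = 19595520 := by
    intro y hy g hg
    obtain ⟨a, ha, b, hb, c, hc, hab, -, -⟩ := C.mupos
    obtain ⟨m⟩ := Cfsg.Agent.H834.Bridge.model_of_iso e (D := TK e) rfl
    have hx0 : Is3A (TK e) (a * b) := ⟨a, ha, b, hb, hab, rfl⟩
    obtain ⟨p3, p1⟩ := pow_3A I hx0
    have ho : orderOf (a * b) = 3 := by
      have := Fact.mk Nat.prime_three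
      exact orderOf_eq_prime p3 p1
    obtain ⟨i, k, hk⟩ := cl _ ho
    have h1 := wd _ ho i k hk
    rw [H836.Main.inter_eq, Cfsg.Agent.H835.Kind.width_three m hx0] at h1
    have hi : i = 0 := by
      fin_cases i
      · rfl
      · exfalso
        have h2 : (6 : ℕ) = 4 := h1.trans w1
        omega
      · exfalso
        have h2 : (6 : ℕ) = 3 := h1.trans w2
        omega
      · exfalso
        have h2 : (6 : ℕ) = 0 := h1.trans w3
        omega
    rw [hi] at hk
    rw [same y (a * b) 0 g k hg hk]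
    exact C.card_three ha hb hab
  have c1 : ∀ y : K, orderOf y = 3 → ∀ g : K, (zpowers y).map (MulAut.conj g).toMonoidHom = Y 1 →
      Nat.card ↥(centralizer ({y} : Set K)) ∣ 279936 := fun y hy g hg =>
    card_of_width_four e hy ((wd y hy 1 g hg).trans w1)
  have c3 : ∀ y : K, orderOf y = 3 → ∀ g : K, (zpowers y).map (MulAut.conj g).toMonoidHom = Y 3 →
      Nat.card ↥(centralizer ({y} : Set K)) = 17496 := by
    intro y hy g hg
    apply card_of_free e hy
    intro t ht hyt
    have h1 := (wd y hy 3 g hg).trans w3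
    rw [H836.Main.inter_eq] at h1
    have h2 := Cfsg.Agent.H834.le_commutingWidth (D := Fx (TK e) y) (E := {t}) (by
      rintro _ rfl
      exact ⟨ht, hyt⟩) (by
      rintro a rfl b hb
      have hb' : b = a := hb
      rw [hb'])
    rw [Set.ncard_singleton, h1] at h2
    omega
  obtain ⟨z, hz, hz9⟩ := exists_central C.card
  have c2 : ∀ y : K, orderOf y = 3 → ∀ g : K, (zpowers y).map (MulAut.conj g).toMonoidHom = Y 2 →
      Nat.card ↥(centralizer ({y} : Set K)) = Nat.card ↥(centralizer ({z} : Set K)) := by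
    intro y hy g hg
    obtain ⟨i, k, hk⟩ := cl _ hz
    have hi : i = 2 := by
      fin_cases i
      · exfalso
        have h1 := c0 z hz k hk
        rw [h1] at hz9
        revert hz9
        norm_num
      · exfalso
        have h1 := hz9.trans (c1 z hz k hk)
        revert h1
        norm_num
      · rfl
      · exfalso
        have h1 := c3 z hz k hk
        rw [h1] at hz9
        revert hz9
        norm_num
    rw [hi] at hk
    exact same y z 2 g k hg hk
  obtain ⟨i, g, hg⟩ := cl s hs
  fin_cases i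
  · exact Or.inl (c0 s hs g hg)
  · exact Or.inr (Or.inr (Or.inl (c1 s hs g hg)))
  · refine Or.inr (Or.inl ?_)
    have h1 := c2 s hs g hg
    rw [h1]
    exact ⟨card_of_central e hz hz9, hz9⟩
  · exact Or.inr (Or.inr (Or.inr (c3 s hs g hg)))

include e in
/-- **`|C(s)| ≤ 19595520`** for `s` of order three. -/
theorem card_le {s : K} (hs : orderOf s = 3) : Nat.card ↥(centralizer ({s} : Set K)) ≤ 19595520 := by
  rcases cases e hs with h | ⟨h, -⟩ | h | h
  · exact h.le
  · exact (Nat.le_of_dvd (by norm_num) h).trans (by norm_num)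
  · exact (Nat.le_of_dvd (by norm_num) h).trans (by norm_num)
  · rw [h]; norm_num

end Cfsg.Agent.H759.Ore.Fi22Cent
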